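import Mathlib
import Groth.Prelude.Def_W4swconnpcurvhiggsLogLam

/-! The pieces `E_I` of a logarithmic `λ`-connection are stable under multiplication by functions. -/

set_option autoImplicit false
set_option linter.unusedSectionVars false

universe v u

open TensorProduct

namespace Groth.Agent.LogConnPieceLib

variable {A : Type v} {B L E : Type u} [CommRing A] [CommRing B]
  [Algebra A B] [AddCommGroup L] [Module B L] [Module A L] [IsScalarTower A B L]
  [AddCommGroup E] [Module B E] [Module A E] [IsScalarTower A B E]
  {lam : B} {n : ℕ} {t : Fin n → B} (bΩ : Module.Basis (Fin n) B (KaehlerDifferential A B))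
  (hbΩ : ∀ i, bΩ i = KaehlerDifferential.D A B (t i))
  {ω : Module.Basis (Fin n) B L} {ι : KaehlerDifferential A B →ₗ[B] L}
  (hι : ∀ i, ι (KaehlerDifferential.D A B (t i)) = t i • ω i)
  {nabla : E →ₗ[A] E ⊗[B] L}
  (hc : Conn.IsLamConn (ι.compDer (KaehlerDifferential.D A B)) lam nabla)

/-- The partial derivative along `t i`. -/
noncomputable def pd (i : Fin n) (b : B) : B := bΩ.coord i (KaehlerDifferential.D A B b)

theorem pd_mul (i : Fin n) (b c : B) : pd bΩ i (b * c) = b * pd bΩ i c + c * pd bΩ i b := by
  simp [pd, Derivation.leibniz]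

include hbΩ in
theorem pd_prod_eq_zero (i : Fin n) (K : Finset (Fin n)) (h : i ∉ K) : pd bΩ i (∏ j ∈ K, t j) = 0 := by
  classical
  induction K using Finset.induction_on with
  | empty => simp [pd]
  | insert a K ha ih =>
    rw [Finset.mem_insert, not_or] at h
    rw [Finset.prod_insert ha, pd_mul, ih h.2, mul_zero, zero_add,
      show pd bΩ i (t a) = 0 by rw [pd, ← hbΩ, Module.Basis.coord_apply, bΩ.repr_self, Finsupp.single_eq_of_ne (by exact h.1)],
      mul_zero]

include hbΩ hι hc in
theorem comp_smul (i : Fin n) (b : B) (e : E) :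
    LogConn.comp nabla ω i (b • e) = b • LogConn.comp nabla ω i e + (lam * (pd bΩ i b * t i)) • e := by
  classical
  show Conn.along nabla (ω.coord i) (b • e) = b • Conn.along nabla (ω.coord i) e + _
  have key : ω.coord i (ι (KaehlerDifferential.D A B b)) = pd bΩ i b * t i := by
    conv_lhs => rw [← bΩ.sum_repr (KaehlerDifferential.D A B b)]
    simp only [map_sum, map_smul, hbΩ, hι, Module.Basis.coord_apply, Finsupp.coe_smul, smul_eq_mul,
      Module.Basis.repr_self]
    rw [Finset.sum_eq_single i]
    · simp [pd]
    · intro j _ hj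
      simp [Finsupp.single_eq_of_ne (Ne.symm hj)]
    · simp
  rw [Conn.along_apply, Conn.along_apply, hc b e, map_add, map_add, map_smul, map_smul, map_smul, map_smul,
    TensorProduct.map_tmul, TensorProduct.rid_tmul, LinearMap.id_apply, mul_smul]
  exact congrArg (fun c => _ + lam • c • e) key

theorem compProd_insert (j : Fin n) (K : Finset (Fin n)) (hj : ∀ k ∈ K, j < k) :
    LogConn.compProd nabla ω (insert j K) = LogConn.comp nabla ω j ∘ₗ LogConn.compProd nabla ω K := by
  have hjK : j ∉ K := fun h => lt_irrefl j (hj j h)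
  unfold LogConn.compProd
  rw [Finset.sort_insert (r := (· ≤ ·)) (fun k hk => (hj k hk).le) hjK]
  rfl

theorem compProd_empty : LogConn.compProd nabla ω (∅ : Finset (Fin n)) = (LinearMap.id : E →ₗ[A] E) := by
  unfold LogConn.compProd
  rw [Finset.sort_empty]
  rfl

/-- The `B`-span of the expected generators for one vector. -/
def genSpan (nabla : E →ₗ[A] E ⊗[B] L) (ω : Module.Basis (Fin n) B L) (t : Fin n → B) (J : Finset (Fin n)) (e : E) :
    Submodule B E :=
  Submodule.span B (⋃ K ∈ J.powerset, {(∏ i ∈ J \ K, t i) • LogConn.compProd nabla ω K e})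

include hbΩ hι hc in
/-- Composites of components applied to a multiple. -/
theorem compProd_smul_mem : ∀ (J : Finset (Fin n)) (b : B) (e : E),
    LogConn.compProd nabla ω J (b • e) ∈ genSpan nabla ω t J e := by
  classical
  intro J
  induction J using Finset.induction_on_min with
  | empty =>
    intro b e
    rw [compProd_empty]
    refine Submodule.smul_mem _ b (Submodule.subset_span ?_)
    refine Set.mem_iUnion₂.2 ⟨∅, Finset.mem_powerset.2 le_rfl, ?_⟩
    simp [compProd_empty]
  | insert j J hj ih =>
    intro b e
    have hjJ : j ∉ J := fun h => lt_irrefl j (hj j h)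
    rw [compProd_insert j J hj, LinearMap.comp_apply]
    have key : ∀ y ∈ genSpan nabla ω t J e, LogConn.comp nabla ω j y ∈ genSpan nabla ω t (insert j J) e := by
      intro y hy
      suffices hs : ∀ c : B, LogConn.comp nabla ω j (c • y) ∈ genSpan nabla ω t (insert j J) e by
        simpa using hs 1
      induction hy using Submodule.span_induction with
      | mem y hy =>
        intro c
        obtain ⟨K, hK, hyK⟩ := Set.mem_iUnion₂.1 hy
        rw [Set.mem_singleton_iff] at hyK
        subst hyK
        rw [Finset.mem_powerset] at hK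
        rw [smul_smul, comp_smul bΩ hbΩ hι hc]
        refine add_mem ?_ ?_
        · rw [mul_smul]
          refine Submodule.smul_mem _ c (Submodule.subset_span (Set.mem_iUnion₂.2
            ⟨insert j K, Finset.mem_powerset.2 (Finset.insert_subset_insert j hK), ?_⟩))
          rw [Set.mem_singleton_iff, compProd_insert j K (fun k hk => hj k (hK hk)), LinearMap.comp_apply,
            Finset.insert_sdiff_insert, Finset.sdiff_insert_of_notMem hjJ]
        · have hd : pd bΩ j (c * ∏ i ∈ J \ K, t i) = (∏ i ∈ J \ K, t i) * pd bΩ j c := by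
            rw [pd_mul, pd_prod_eq_zero bΩ hbΩ j _ (fun h => hjJ (Finset.sdiff_subset h)), mul_zero, zero_add]
          rw [hd, show lam * ((∏ i ∈ J \ K, t i) * pd bΩ j c * t j) =
            (lam * pd bΩ j c) * (t j * ∏ i ∈ J \ K, t i) by ring, mul_smul]
          refine Submodule.smul_mem _ _ (Submodule.subset_span (Set.mem_iUnion₂.2
            ⟨K, Finset.mem_powerset.2 (hK.trans (Finset.subset_insert j J)), ?_⟩))
          rw [Set.mem_singleton_iff, Finset.insert_sdiff_of_notMem J (fun h => hjJ (hK h)),
            Finset.prod_insert (fun h => hjJ (Finset.sdiff_subset h))]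
      | zero => intro c; rw [smul_zero, map_zero]; exact zero_mem _
      | add y z _ _ hy hz => intro c; rw [smul_add, map_add]; exact add_mem (hy c) (hz c)
      | smul r y _ hy => intro c; rw [smul_smul]; exact hy _
    exact key _ (ih b e)

theorem term_mem_piece (I K : Finset (Fin n)) (hK : K ⊆ I) (e : E) :
    (∏ i ∈ I \ K, t i) • LogConn.compProd nabla ω K e ∈ LogConn.piece nabla ω t I := by
  unfold LogConn.piece
  exact Submodule.mem_iSup_of_mem K (Submodule.mem_iSup_of_mem (Finset.mem_powerset.2 hK) ⟨e, rfl⟩)

include hbΩ hι hc in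
theorem smul_compProd_mem : ∀ (J : Finset (Fin n)) (b : B) (e : E),
    b • LogConn.compProd nabla ω J e ∈ LogConn.piece nabla ω t J := by
  classical
  intro J
  induction J using Finset.induction_on_min with
  | empty =>
    intro b e
    have h := term_mem_piece (t := t) (nabla := nabla) (ω := ω) ∅ ∅ le_rfl (b • e)
    simpa [compProd_empty] using h
  | insert j J hj ih =>
    intro b e
    have hjJ : j ∉ J := fun h => lt_irrefl j (hj j h)
    have mul_tj : ∀ y ∈ LogConn.piece nabla ω t J, t j • y ∈ LogConn.piece nabla ω t (insert j J) := by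
      intro y hy
      have hle : LogConn.piece nabla ω t J ≤
          (LogConn.piece nabla ω t (insert j J)).comap ((LinearMap.lsmul B E (t j)).restrictScalars A) := by
        refine iSup₂_le fun K hK => ?_
        rintro _ ⟨x, rfl⟩
        rw [Finset.mem_powerset] at hK
        show t j • ((∏ i ∈ J \ K, t i) • LogConn.compProd nabla ω K x) ∈ LogConn.piece nabla ω t (insert j J)
        rw [smul_smul, ← Finset.prod_insert (fun h => hjJ (Finset.sdiff_subset h)),
          ← Finset.insert_sdiff_of_notMem J (fun h => hjJ (hK h))]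
        exact term_mem_piece _ K (hK.trans (Finset.subset_insert j J)) x
      exact hle hy
    have comp_mem : ∀ y ∈ LogConn.piece nabla ω t J, LogConn.comp nabla ω j y ∈ LogConn.piece nabla ω t (insert j J) := by
      intro y hy
      have hle : LogConn.piece nabla ω t J ≤
          (LogConn.piece nabla ω t (insert j J)).comap (LogConn.comp nabla ω j) := by
        refine iSup₂_le fun K hK => ?_
        rintro _ ⟨x, rfl⟩
        rw [Finset.mem_powerset] at hK
        show LogConn.comp nabla ω j ((∏ i ∈ J \ K, t i) • LogConn.compProd nabla ω K x) ∈ LogConn.piece nabla ω t (insert j J)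
        rw [comp_smul bΩ hbΩ hι hc, pd_prod_eq_zero bΩ hbΩ j _ (fun h => hjJ (Finset.sdiff_subset h)), zero_mul,
          mul_zero, zero_smul, add_zero, ← LinearMap.comp_apply (LogConn.comp nabla ω j),
          ← compProd_insert j K (fun k hk => hj k (hK hk))]
        have h := term_mem_piece (t := t) (nabla := nabla) (ω := ω) (insert j J) (insert j K) (Finset.insert_subset_insert j hK) x
        rwa [Finset.insert_sdiff_insert, Finset.sdiff_insert_of_notMem hjJ] at h
      exact hle hy
    rw [compProd_insert j J hj, LinearMap.comp_apply,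
      eq_sub_of_add_eq (comp_smul bΩ hbΩ hι hc j b (LogConn.compProd nabla ω J e)).symm]
    refine sub_mem (comp_mem _ (ih b e)) ?_
    rw [show lam * (pd bΩ j b * t j) = t j * (lam * pd bΩ j b) by ring, mul_smul]
    exact mul_tj _ (ih _ e)

include hbΩ hι hc in
/-- The pieces are stable under `B`. -/
theorem smul_mem (I : Finset (Fin n)) (b : B) (x : E) (hx : x ∈ LogConn.piece nabla ω t I) :
    b • x ∈ LogConn.piece nabla ω t I := by
  classical
  have hle : LogConn.piece nabla ω t I ≤ (LogConn.piece nabla ω t I).comap ((LinearMap.lsmul B E b).restrictScalars A) := by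
    refine iSup₂_le fun J hJ => ?_
    rintro _ ⟨e, rfl⟩
    rw [Finset.mem_powerset] at hJ
    show b • ((∏ i ∈ I \ J, t i) • LogConn.compProd nabla ω J e) ∈ LogConn.piece nabla ω t I
    rw [smul_comm]
    have h := smul_compProd_mem bΩ hbΩ hι hc J b e
    have hle2 : LogConn.piece nabla ω t J ≤
        (LogConn.piece nabla ω t I).comap ((LinearMap.lsmul B E (∏ i ∈ I \ J, t i)).restrictScalars A) := by
      refine iSup₂_le fun K hK => ?_
      rintro _ ⟨x, rfl⟩
      rw [Finset.mem_powerset] at hK
      show (∏ i ∈ I \ J, t i) • ((∏ i ∈ J \ K, t i) • LogConn.compProd nabla ω K x) ∈ LogConn.piece nabla ω t I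
      rw [smul_smul, ← Finset.prod_union (Finset.sdiff_disjoint.mono_right Finset.sdiff_subset),
        Finset.sdiff_union_sdiff_cancel hJ hK]
      exact term_mem_piece _ K (hK.trans hJ) x
    exact hle2 h
  exact hle hx

include hbΩ hι hc in
/-- Finitely many generators. -/
theorem span_eq {m : ℕ} (e : Fin m → E) (he : Submodule.span B (Set.range e) = ⊤) (I : Finset (Fin n)) :
    (Submodule.span B (⋃ J ∈ I.powerset, Set.range (fun k : Fin m =>
        (∏ i ∈ I \ J, t i) • LogConn.compProd nabla ω J (e k)))).restrictScalars A =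
      LogConn.piece nabla ω t I := by
  classical
  refine le_antisymm ?_ ?_
  · intro x hx
    induction hx using Submodule.span_induction with
    | mem x hx =>
      obtain ⟨J, hJ, k, rfl⟩ := Set.mem_iUnion₂.1 hx
      exact term_mem_piece I J (Finset.mem_powerset.1 hJ) _
    | zero => exact zero_mem _
    | add _ _ _ _ hy hz => exact add_mem hy hz
    | smul r y _ hy => exact smul_mem bΩ hbΩ hι hc I r y hy
  · refine iSup₂_le fun J hJ => ?_
    rintro _ ⟨x, rfl⟩
    rw [Finset.mem_powerset] at hJ
    obtain ⟨c, hc'⟩ := (Submodule.mem_span_range_iff_exists_fun B).1 (he.ge (Submodule.mem_top : x ∈ (⊤ : Submodule B E)))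
    show (∏ i ∈ I \ J, t i) • LogConn.compProd nabla ω J x ∈ _
    rw [← hc', map_sum, Finset.smul_sum]
    refine sum_mem fun k _ => ?_
    have h : genSpan nabla ω t J (e k) ≤ (Submodule.span B (⋃ J ∈ I.powerset, Set.range (fun k : Fin m =>
        (∏ i ∈ I \ J, t i) • LogConn.compProd nabla ω J (e k)))).comap (LinearMap.lsmul B E (∏ i ∈ I \ J, t i)) := by
      refine Submodule.span_le.2 fun y hy => ?_
      obtain ⟨K, hK, hyK⟩ := Set.mem_iUnion₂.1 hy
      rw [Set.mem_singleton_iff] at hyK
      subst hyK
      rw [Finset.mem_powerset] at hK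
      refine Submodule.subset_span (Set.mem_iUnion₂.2 ⟨K, Finset.mem_powerset.2 (hK.trans hJ), k, ?_⟩)
      show _ = (∏ i ∈ I \ J, t i) • ((∏ i ∈ J \ K, t i) • LogConn.compProd nabla ω K (e k))
      rw [smul_smul, ← Finset.prod_union (Finset.sdiff_disjoint.mono_right Finset.sdiff_subset),
        Finset.sdiff_union_sdiff_cancel hJ hK]
    exact h (compProd_smul_mem bΩ hbΩ hι hc J (c k) (e k))

end Groth.Agent.LogConnPieceLib
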