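import Mathlib
import Groth.Agent.LogConnPieceLib.Basic
import Groth.Prelude.Def_LogDiff

/-! Flat logarithmic `λ`-connections: components commute, layers are stable. -/

set_option autoImplicit false
set_option linter.unusedSectionVars false

universe v u

open TensorProduct

namespace Groth.Agent.LogConnPieceLib

variable {A : Type v} {B L E : Type u} [CommRing A] [CommRing B]
  [Algebra A B] [AddCommGroup L] [Module B L] [Module A L] [IsScalarTower A B L]
  [AddCommGroup E] [Module B E] [Module A E] [IsScalarTower A B E]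
  {lam : B} {n : ℕ} {t : Fin n → B} (bΩ : Module.Basis (Fin n) B (KaehlerDifferential A B))
  (hbΩ : ∀ i, bΩ i = KaehlerDifferential.D A B (t i))
  {ω : Module.Basis (Fin n) B L} {ι : KaehlerDifferential A B →ₗ[B] L}
  (hι : ∀ i, ι (KaehlerDifferential.D A B (t i)) = t i • ω i)
  {nabla : E →ₗ[A] E ⊗[B] L}
  (hc : Conn.IsLamConn (ι.compDer (KaehlerDifferential.D A B)) lam nabla)
  {d : ∀ p : ℕ, ↥(⋀[B]^p L) →ₗ[A] ↥(⋀[B]^(p + 1) L)}
  {nablas : ∀ p : ℕ, E ⊗[B] ↥(⋀[B]^p L) →ₗ[A] E ⊗[B] ↥(⋀[B]^(p + 1) L)}

/-- Left multiplication by a vector. -/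
noncomputable def wone (p : ℕ) (g : Fin p → L) : L →ₗ[B] ↥(⋀[B]^(p + 1) L) :=
  (Conn.wedge p).flip (exteriorPower.ιMulti B p g) ∘ₗ (exteriorPower.oneEquiv B L).symm.toLinearMap

theorem oneEquiv_symm_apply (v : L) :
    (exteriorPower.oneEquiv B L).symm v = exteriorPower.ιMulti B 1 ![v] :=
  (exteriorPower.oneEquiv B L).injective (by
    rw [LinearEquiv.apply_symm_apply, exteriorPower.oneEquiv_ιMulti]; rfl)

theorem wone_apply (p : ℕ) (g : Fin p → L) (v : L) :
    wone p g v = exteriorPower.ιMulti B (p + 1) (Fin.cons v g) := by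
  refine Subtype.ext ?_
  show (Conn.wedge p ((exteriorPower.oneEquiv B L).symm v) (exteriorPower.ιMulti B p g)).1 = _
  rw [oneEquiv_symm_apply, Conn.wedge_apply_coe, exteriorPower.ιMulti_apply_coe, exteriorPower.ιMulti_apply_coe,
    exteriorPower.ιMulti_apply_coe, ExteriorAlgebra.ιMulti_succ_apply, ExteriorAlgebra.ιMulti_succ_apply]
  simp [Matrix.vecTail, Function.comp_def]

theorem nabla_eq_sum (nabla : E →ₗ[A] E ⊗[B] L) (m : E) :
    nabla m = ∑ i, LogConn.comp nabla ω i m ⊗ₜ[B] ω i := by
  have h : ∀ y : E ⊗[B] L,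
      y = ∑ i, (TensorProduct.rid B E) (TensorProduct.map LinearMap.id (ω.coord i) y) ⊗ₜ[B] ω i := by
    intro y
    induction y using TensorProduct.induction_on with
    | zero => simp
    | tmul e w =>
      conv_lhs => rw [← ω.sum_repr w, TensorProduct.tmul_sum]
      refine Finset.sum_congr rfl fun i _ => ?_
      rw [TensorProduct.map_tmul, TensorProduct.rid_tmul, Module.Basis.coord_apply, LinearMap.id_apply,
        TensorProduct.smul_tmul]
    | add y z hy hz =>
      simp only [map_add, TensorProduct.add_tmul, Finset.sum_add_distrib]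
      exact congrArg₂ (· + ·) hy hz
  exact h (nabla m)

theorem nablas_tmul {δd : ∀ p : ℕ, ↥(⋀[B]^p L) →ₗ[A] ↥(⋀[B]^(p + 1) L)}
    (hrule : Conn.IsCxRule nabla δd nablas) (p : ℕ) (a : E) (c : B) (g : Fin p → L) :
    nablas p (a ⊗ₜ[B] (c • exteriorPower.ιMulti B p g)) =
      (∑ i, c • (LogConn.comp nabla ω i a ⊗ₜ[B] wone p g (ω i))) + a ⊗ₜ[B] δd p (c • exteriorPower.ιMulti B p g) := by
  rw [hrule, nabla_eq_sum (ω := ω) nabla a, map_sum, map_sum, LinearMap.sum_apply]
  congr 1
  refine Finset.sum_congr rfl fun i _ => ?_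
  rw [Conn.toOne_tmul, Conn.twedge_tmul, map_smul, TensorProduct.tmul_smul]
  rfl

/-- The components commute when the curvature vanishes and the differential kills the basis. -/
theorem comp_comm (hint : Conn.IsIntegrable nabla (fun p => lam • d p) nablas)
    (hdω : ∀ i, d 1 (exteriorPower.ιMulti B 1 ![ω i]) = 0) (i j : Fin n) (m : E) :
    LogConn.comp nabla ω i (LogConn.comp nabla ω j m) = LogConn.comp nabla ω j (LogConn.comp nabla ω i m) := by
  classical
  by_cases hij : i = j
  · rw [hij]
  have h0 := hint.2 m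
  rw [nabla_eq_sum (ω := ω) nabla m, map_sum, map_sum] at h0
  let θ : E ⊗[B] ↥(⋀[B]^(1 + 1) L) →ₗ[B] E := (TensorProduct.rid B E).toLinearMap ∘ₗ TensorProduct.map LinearMap.id
    (exteriorPower.pairingDual B L (1 + 1) (exteriorPower.ιMulti B (1 + 1) ![ω.coord i, ω.coord j]))
  have hθ : ∀ (a : E) (x y : L), θ (a ⊗ₜ[B] exteriorPower.ιMulti B (1 + 1) ![x, y]) =
      (ω.coord i x * ω.coord j y - ω.coord j x * ω.coord i y) • a := by
    intro a x y
    simp only [θ, LinearMap.comp_apply, LinearEquiv.coe_coe, TensorProduct.map_tmul, LinearMap.id_apply,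
      TensorProduct.rid_tmul, exteriorPower.pairingDual_ιMulti_ιMulti]
    congr 1
    rw [Matrix.det_fin_two]
    simp
  have h1 : ∀ l : Fin n, nablas 1 (Conn.toOne (LogConn.comp nabla ω l m ⊗ₜ[B] ω l)) =
      ∑ a, LogConn.comp nabla ω a (LogConn.comp nabla ω l m) ⊗ₜ[B] exteriorPower.ιMulti B (1 + 1) ![ω a, ω l] := by
    intro l
    rw [Conn.toOne_tmul, oneEquiv_symm_apply, ← one_smul B (exteriorPower.ιMulti B 1 ![ω l]),
      nablas_tmul (ω := ω) hint.1, LinearMap.smul_apply, one_smul, hdω, smul_zero, TensorProduct.tmul_zero, add_zero]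
    refine Finset.sum_congr rfl fun a _ => ?_
    rw [one_smul, wone_apply]
    rfl
  rw [Finset.sum_congr rfl fun l _ => h1 l] at h0
  have h2 := congrArg θ h0
  simp only [map_sum, map_zero, hθ, Module.Basis.coord_apply, Module.Basis.repr_self, sub_smul,
    Finset.sum_sub_distrib] at h2
  simp only [Finsupp.single_apply, ite_mul, mul_ite, one_mul, mul_one, zero_mul, mul_zero, ite_smul, one_smul,
    zero_smul] at h2
  simp [Finset.sum_ite_irrel, Finset.sum_ite_eq'] at h2
  exact sub_eq_zero.mp h2

theorem hdω_of_isLogRule (hd : LogDiff.IsLogRule (KaehlerDifferential.D A B) ι (⇑ω) d) (i : Fin n) :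
    d 1 (exteriorPower.ιMulti B 1 ![ω i]) = 0 := by
  have h := hd 1 1 ![ω i] fun k => Or.inr ⟨i, by rw [Subsingleton.elim k 0]; rfl⟩
  rw [one_smul] at h
  rw [h, Derivation.map_one_eq_zero, map_zero, ← wone_apply, map_zero]

variable (hcomm : ∀ (i j : Fin n) (m : E),
    LogConn.comp nabla ω i (LogConn.comp nabla ω j m) = LogConn.comp nabla ω j (LogConn.comp nabla ω i m))

include hcomm in
theorem compProd_insert' (j : Fin n) (K : Finset (Fin n)) (hj : j ∉ K) :
    LogConn.compProd nabla ω (insert j K) = LogConn.comp nabla ω j ∘ₗ LogConn.compProd nabla ω K := by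
  classical
  haveI : LeftCommutative (fun (i : Fin n) (φ : E →ₗ[A] E) => LogConn.comp nabla ω i ∘ₗ φ) :=
    ⟨fun a b φ => LinearMap.ext fun m => hcomm a b (φ m)⟩
  have hperm : ((insert j K).sort (· ≤ ·)).Perm (j :: K.sort (· ≤ ·)) :=
    ((insert j K).sort_perm_toList (· ≤ ·)).trans ((Finset.toList_insert hj).trans ((K.sort_perm_toList (· ≤ ·)).symm.cons j))
  unfold LogConn.compProd
  rw [hperm.foldr_eq]
  rfl

include hcomm in
theorem comp_compProd (i : Fin n) (K : Finset (Fin n)) (m : E) :
    LogConn.comp nabla ω i (LogConn.compProd nabla ω K m) = LogConn.compProd nabla ω K (LogConn.comp nabla ω i m) := by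
  classical
  induction K using Finset.induction_on with
  | empty => rw [compProd_empty]; rfl
  | insert a K ha ih =>
    rw [compProd_insert' hcomm a K ha, LinearMap.comp_apply, LinearMap.comp_apply, hcomm, ih]

include hcomm in
theorem compProd_union (K K' : Finset (Fin n)) (h : Disjoint K K') (m : E) :
    LogConn.compProd nabla ω (K ∪ K') m = LogConn.compProd nabla ω K (LogConn.compProd nabla ω K' m) := by
  classical
  induction K using Finset.induction_on with
  | empty => rw [Finset.empty_union, compProd_empty]; rfl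
  | insert a K ha ih =>
    rw [Finset.disjoint_insert_left] at h
    rw [Finset.insert_union, compProd_insert' hcomm a K ha,
      compProd_insert' hcomm a (K ∪ K') (by simp [ha, h.1]), LinearMap.comp_apply, LinearMap.comp_apply, ih h.2]

include hcomm in
/-- A product of coordinates times a composite lies in the piece of a set covered by both. -/
theorem prod_smul_compProd_mem (I J : Finset (Fin n)) (e : E) :
    (∏ i ∈ I \ J, t i) • LogConn.compProd nabla ω J e ∈ LogConn.piece nabla ω t I := by
  classical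
  have hu : J = (J ∩ I) ∪ (J \ I) := by ext x; simp only [Finset.mem_union, Finset.mem_sdiff, Finset.mem_inter]; tauto
  have hd' : Disjoint (J ∩ I) (J \ I) := Finset.disjoint_left.mpr fun x hx hx' =>
    (Finset.mem_sdiff.1 hx').2 (Finset.mem_inter.1 hx).2
  have hsd : I \ J = I \ (J ∩ I) := by ext x; simp only [Finset.mem_sdiff, Finset.mem_inter]; tauto
  have happ : LogConn.compProd nabla ω J e = LogConn.compProd nabla ω (J ∩ I) (LogConn.compProd nabla ω (J \ I) e) := by
    rw [← compProd_union hcomm _ _ hd', ← hu]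
  rw [happ, hsd]
  exact term_mem_piece I _ Finset.inter_subset_right _

include hcomm in
theorem prod_smul_piece_mem (I I' : Finset (Fin n)) {x : E} (hx : x ∈ LogConn.piece nabla ω t I)
    (hbΩ : ∀ i, bΩ i = KaehlerDifferential.D A B (t i))
    (hι : ∀ i, ι (KaehlerDifferential.D A B (t i)) = t i • ω i)
    (hc : Conn.IsLamConn (ι.compDer (KaehlerDifferential.D A B)) lam nabla) :
    (∏ i ∈ I' \ I, t i) • x ∈ LogConn.piece nabla ω t I' := by
  classical
  have hle : LogConn.piece nabla ω t I ≤
      (LogConn.piece nabla ω t I').comap ((LinearMap.lsmul B E (∏ i ∈ I' \ I, t i)).restrictScalars A) := by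
    refine iSup₂_le fun J hJ => ?_
    rintro _ ⟨e, rfl⟩
    rw [Finset.mem_powerset] at hJ
    show (∏ i ∈ I' \ I, t i) • ((∏ i ∈ I \ J, t i) • LogConn.compProd nabla ω J e) ∈ LogConn.piece nabla ω t I'
    have hdisj : Disjoint (I' \ I) (I \ J) := Finset.disjoint_left.mpr fun x hx hx' =>
      (Finset.mem_sdiff.1 hx).2 (Finset.mem_sdiff.1 hx').1
    have hsub : I' \ J ⊆ (I' \ I) ∪ (I \ J) := fun x hx => by
      simp only [Finset.mem_sdiff, Finset.mem_union] at hx ⊢; tauto
    rw [smul_smul, ← Finset.prod_union hdisj, ← Finset.prod_sdiff hsub, mul_smul]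
    exact smul_mem bΩ hbΩ hι hc _ _ _ (prod_smul_compProd_mem hcomm I' J e)
  exact hle hx

include hbΩ hι hc hcomm in
/-- All components preserve the pieces. -/
theorem comp_mem_piece (i : Fin n) (I : Finset (Fin n)) {x : E} (hx : x ∈ LogConn.piece nabla ω t I) :
    LogConn.comp nabla ω i x ∈ LogConn.piece nabla ω t I := by
  classical
  have hle : LogConn.piece nabla ω t I ≤ (LogConn.piece nabla ω t I).comap (LogConn.comp nabla ω i) := by
    refine iSup₂_le fun J hJ => ?_
    rintro _ ⟨e, rfl⟩
    rw [Finset.mem_powerset] at hJ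
    show LogConn.comp nabla ω i ((∏ l ∈ I \ J, t l) • LogConn.compProd nabla ω J e) ∈ LogConn.piece nabla ω t I
    rw [comp_smul bΩ hbΩ hι hc, comp_compProd hcomm]
    refine add_mem (term_mem_piece I J hJ _) ?_
    by_cases hi : i ∈ I \ J
    · have hp : pd bΩ i (∏ l ∈ I \ J, t l) * t i = ∏ l ∈ I \ J, t l := by
        rw [← Finset.mul_prod_erase _ _ hi, pd_mul, pd_prod_eq_zero bΩ hbΩ i _ (Finset.notMem_erase i _),
          mul_zero, zero_add, show pd bΩ i (t i) = 1 by
            rw [pd, ← hbΩ, Module.Basis.coord_apply, bΩ.repr_self, Finsupp.single_eq_same], mul_one, mul_comm]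
      rw [hp, mul_smul]
      exact smul_mem bΩ hbΩ hι hc _ _ _ (term_mem_piece I J hJ e)
    · rw [pd_prod_eq_zero bΩ hbΩ i _ hi, zero_mul, mul_zero, zero_smul]
      exact zero_mem _
  exact hle hx

include hbΩ hι hc hcomm in
/-- A component raises the piece. -/
theorem comp_mem_piece_insert (i : Fin n) (I : Finset (Fin n)) (hi : i ∉ I) {x : E}
    (hx : x ∈ LogConn.piece nabla ω t I) :
    LogConn.comp nabla ω i x ∈ LogConn.piece nabla ω t (insert i I) := by
  classical
  have hle : LogConn.piece nabla ω t I ≤ (LogConn.piece nabla ω t (insert i I)).comap (LogConn.comp nabla ω i) := by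
    refine iSup₂_le fun J hJ => ?_
    rintro _ ⟨e, rfl⟩
    rw [Finset.mem_powerset] at hJ
    have hiJ : i ∉ J := fun h => hi (hJ h)
    show LogConn.comp nabla ω i ((∏ l ∈ I \ J, t l) • LogConn.compProd nabla ω J e) ∈ LogConn.piece nabla ω t (insert i I)
    rw [comp_smul bΩ hbΩ hι hc, pd_prod_eq_zero bΩ hbΩ i _ (fun h => hi (Finset.mem_sdiff.1 h).1), zero_mul,
      mul_zero, zero_smul, add_zero, ← LinearMap.comp_apply (LogConn.comp nabla ω i), ← compProd_insert' hcomm i J hiJ]
    have h := term_mem_piece (t := t) (nabla := nabla) (ω := ω) (insert i I) (insert i J) (Finset.insert_subset_insert i hJ) e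
    rwa [Finset.insert_sdiff_insert, Finset.sdiff_insert_of_notMem hi] at h
  exact hle hx

include hbΩ hι hc in
/-- The layer is a `B`-submodule. -/
theorem smul_mem_layer (p : ℕ) (b : B) {x : E ⊗[B] ↥(⋀[B]^p L)} (hx : x ∈ LogConn.layer nabla ω t p) :
    b • x ∈ LogConn.layer nabla ω t p := by
  refine (Submodule.mem_iInf _).2 fun K => ?_
  show LogConn.coordE (E := E) ω p K (b • x) ∈ LogConn.piece nabla ω t _
  rw [map_smul]
  exact smul_mem bΩ hbΩ hι hc _ b _ ((Submodule.mem_iInf _).1 hx K)

theorem coordE_tmul (p : ℕ) (K : Set.powersetCard (Fin n) p) (a : E) (v : Fin p → L) :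
    LogConn.coordE (E := E) ω p K (a ⊗ₜ[B] exteriorPower.ιMulti B p v) =
      (Matrix.of fun k j => ω.coord (Set.powersetCard.ofFinEmbEquiv.symm K j) (v k)).det • a := by
  simp only [LogConn.coordE, LinearMap.comp_apply, LinearEquiv.coe_coe, TensorProduct.map_tmul,
    LinearMap.id_apply, TensorProduct.rid_tmul, exteriorPower.basis_coord, exteriorPower.ιMultiDual_apply_ιMulti]

/-- An elementary tensor along a wedge of basis vectors. -/
theorem tmul_mem_layer (p : ℕ) (a : E) (g : Fin p → Fin n)
    (ha : Function.Injective g → a ∈ LogConn.piece nabla ω t (Finset.univ.image g))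
    (hsm : ∀ (I : Finset (Fin n)) (b : B), ∀ x ∈ LogConn.piece nabla ω t I, b • x ∈ LogConn.piece nabla ω t I) :
    a ⊗ₜ[B] exteriorPower.ιMulti B p (fun k => ω (g k)) ∈ LogConn.layer nabla ω t p := by
  classical
  refine (Submodule.mem_iInf _).2 fun K => ?_
  show LogConn.coordE (E := E) ω p K _ ∈ LogConn.piece nabla ω t _
  rw [coordE_tmul]
  by_cases hg : Function.Injective g
  · by_cases hK : (K : Finset (Fin n)) = Finset.univ.image g
    · rw [hK]; exact hsm _ _ _ (ha hg)
    · obtain ⟨k, hk⟩ : ∃ k, g k ∉ (K : Finset (Fin n)) := by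
        by_contra! hall
        refine hK (Finset.eq_of_subset_of_card_le ?_ ?_).symm
        · exact Finset.image_subset_iff.mpr fun k _ => hall k
        · rw [Finset.card_image_of_injective _ hg, Finset.card_univ, Fintype.card_fin, K.prop]
      rw [Matrix.det_eq_zero_of_row_eq_zero k fun j => ?_, zero_smul]
      · exact zero_mem _
      · rw [Matrix.of_apply, Module.Basis.coord_apply, Module.Basis.repr_self]
        refine Finsupp.single_eq_of_ne fun h => hk ?_
        rw [← h]
        exact (Set.powersetCard.mem_range_ofFinEmbEquiv_symm_iff_mem K _).1 ⟨j, rfl⟩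
  · rw [Function.not_injective_iff] at hg
    obtain ⟨k, l, hkl, hne⟩ := hg
    rw [Matrix.det_zero_of_row_eq hne (funext fun j => by simp [hkl]), zero_smul]
    exact zero_mem _

theorem eq_sum_coordE (p : ℕ) (x : E ⊗[B] ↥(⋀[B]^p L)) :
    x = ∑ K, LogConn.coordE (E := E) ω p K x ⊗ₜ[B] ω.exteriorPower p K := by
  induction x using TensorProduct.induction_on with
  | zero => simp
  | tmul e w =>
    conv_lhs => rw [← (ω.exteriorPower p).sum_repr w, TensorProduct.tmul_sum]
    refine Finset.sum_congr rfl fun K _ => ?_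
    simp only [LogConn.coordE, LinearMap.comp_apply, LinearEquiv.coe_coe, TensorProduct.map_tmul,
      LinearMap.id_apply, TensorProduct.rid_tmul, Module.Basis.coord_apply]
    rw [TensorProduct.smul_tmul]
  | add y z hy hz => simp only [map_add, TensorProduct.add_tmul, Finset.sum_add_distrib]; exact congrArg₂ (· + ·) hy hz

include hbΩ hι in
theorem iota_D (c : B) : ι (KaehlerDifferential.D A B c) = ∑ i, (t i * pd bΩ i c) • ω i := by
  conv_lhs => rw [← bΩ.sum_repr (KaehlerDifferential.D A B c)]
  rw [map_sum]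
  refine Finset.sum_congr rfl fun i _ => ?_
  rw [map_smul, hbΩ, hι, smul_smul, mul_comm, pd, Module.Basis.coord_apply]

include hbΩ hι hc in
/-- The extended connection maps layers to layers. -/
theorem nablas_mem_layer (hd : LogDiff.IsLogRule (KaehlerDifferential.D A B) ι (⇑ω) d)
    (hint : Conn.IsIntegrable nabla (fun p => lam • d p) nablas)
    (p : ℕ) {x : E ⊗[B] ↥(⋀[B]^p L)} (hx : x ∈ LogConn.layer nabla ω t p) :
    nablas p x ∈ LogConn.layer nabla ω t (p + 1) := by
  classical
  have hcomm := comp_comm hint (hdω_of_isLogRule hd)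
  have hsm := fun I b x hx => smul_mem bΩ hbΩ hι hc I b x hx
  rw [eq_sum_coordE (ω := ω) p x, map_sum]
  refine sum_mem fun K _ => ?_
  have hK : LogConn.piece nabla ω t (K : Finset (Fin n)) ≤ (LogConn.layer nabla ω t (p + 1)).comap
      ((nablas p) ∘ₗ ((TensorProduct.mk B E ↥(⋀[B]^p L)).flip (ω.exteriorPower p K)).restrictScalars A) := by
    refine iSup₂_le fun J hJ => ?_
    rintro _ ⟨e, rfl⟩
    rw [Finset.mem_powerset] at hJ
    show nablas p (((∏ i ∈ (K : Finset (Fin n)) \ J, t i) • LogConn.compProd nabla ω J e) ⊗ₜ[B] ω.exteriorPower p K) ∈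
      LogConn.layer nabla ω t (p + 1)
    let g : Fin p → Fin n := Set.powersetCard.ofFinEmbEquiv.symm K
    have hgmem : ∀ k, g k ∈ (K : Finset (Fin n)) := fun k =>
      (Set.powersetCard.mem_range_ofFinEmbEquiv_symm_iff_mem K _).1 ⟨k, rfl⟩
    have hgimg : Finset.univ.image g = (K : Finset (Fin n)) := by
      ext a
      simp only [Finset.mem_image, Finset.mem_univ, true_and]
      exact Set.powersetCard.mem_range_ofFinEmbEquiv_symm_iff_mem K a
    rw [exteriorPower.basis_apply, exteriorPower.ιMulti_family, TensorProduct.smul_tmul,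
      show (ω ∘ ⇑(Set.powersetCard.ofFinEmbEquiv.symm K)) = fun k => ω (g k) from rfl,
      nablas_tmul (ω := ω) hint.1]
    refine add_mem (sum_mem fun i _ => ?_) ?_
    · rw [wone_apply, TensorProduct.smul_tmul',
        show (Fin.cons (ω i) (fun k => ω (g k)) : Fin (p + 1) → L) = fun k => ω ((Fin.cons i g : Fin (p + 1) → Fin n) k)
          from (Fin.comp_cons (⇑ω) i g).symm]
      refine tmul_mem_layer (p + 1) _ _ (fun hinj => ?_) hsm
      have himg : Finset.univ.image (Fin.cons i g : Fin (p + 1) → Fin n) = insert i (K : Finset (Fin n)) := by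
        rw [← hgimg]
        ext a
        simp [Fin.exists_fin_succ, eq_comm]
      have hiK : i ∉ (K : Finset (Fin n)) := fun h => by
        rw [← hgimg, Finset.mem_image] at h
        obtain ⟨k, -, hk⟩ := h
        exact Fin.succ_ne_zero k (hinj (by simp [hk]))
      rw [himg]
      have h := term_mem_piece (t := t) (nabla := nabla) (ω := ω) (insert i (K : Finset (Fin n))) (insert i J)
        (Finset.insert_subset_insert i hJ) e
      rwa [Finset.insert_sdiff_insert, Finset.sdiff_insert_of_notMem hiK,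
        compProd_insert' hcomm i J (fun h => hiK (hJ h))] at h
    · rw [LinearMap.smul_apply, hd p _ _ fun k => Or.inr ⟨g k, rfl⟩, TensorProduct.tmul_smul]
      refine smul_mem_layer bΩ hbΩ hι hc _ _ ?_
      rw [← wone_apply, iota_D bΩ hbΩ hι, map_sum, TensorProduct.tmul_sum]
      refine sum_mem fun i _ => ?_
      by_cases hi : i ∈ (K : Finset (Fin n))
      · obtain ⟨k, -, hk⟩ := Finset.mem_image.1 (hgimg.ge hi)
        rw [map_smul, wone_apply, AlternatingMap.map_eq_zero_of_eq (exteriorPower.ιMulti B (p + 1)) _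
          (show (Fin.cons (ω i) (fun k => ω (g k)) : Fin (p + 1) → L) 0 = (Fin.cons (ω i) (fun k => ω (g k)) : Fin (p + 1) → L) k.succ by
            simp [hk]) (Fin.succ_ne_zero k).symm, smul_zero, TensorProduct.tmul_zero]
        exact zero_mem _
      · rw [pd_prod_eq_zero bΩ hbΩ i _ (fun h => hi (Finset.mem_sdiff.1 h).1), mul_zero, zero_smul, map_zero,
          TensorProduct.tmul_zero]
        exact zero_mem _
  exact hK ((Submodule.mem_iInf _).1 hx K)

end Groth.Agent.LogConnPieceLib
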