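import Mathlib
import Groth.Agent.LogConnPieceLib.Flat

/-! Layers do not depend on the admissible coordinates. -/

set_option autoImplicit false
set_option linter.unusedSectionVars false

universe v u

open TensorProduct

namespace Groth.Agent.LogConnPieceLib

variable {A : Type v} {B L E : Type u} [CommRing A] [CommRing B]
  [Algebra A B] [AddCommGroup L] [Module B L] [Module A L] [IsScalarTower A B L]
  [AddCommGroup E] [Module B E] [Module A E] [IsScalarTower A B E]
  {lam : B} {n : ℕ} {t : Fin n → B} (bΩ : Module.Basis (Fin n) B (KaehlerDifferential A B))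
  (hbΩ : ∀ i, bΩ i = KaehlerDifferential.D A B (t i))
  {ω : Module.Basis (Fin n) B L} {ι : KaehlerDifferential A B →ₗ[B] L}
  (hι : ∀ i, ι (KaehlerDifferential.D A B (t i)) = t i • ω i)
  {nabla : E →ₗ[A] E ⊗[B] L}
  (hc : Conn.IsLamConn (ι.compDer (KaehlerDifferential.D A B)) lam nabla)
  (hcomm : ∀ (i j : Fin n) (m : E),
    LogConn.comp nabla ω i (LogConn.comp nabla ω j m) = LogConn.comp nabla ω j (LogConn.comp nabla ω i m))
  {t' : Fin n → B} {ω' : Module.Basis (Fin n) B L} (v : Fin n → B) (ht' : ∀ l, t' l = v l * t l)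
  (c : Fin n → Fin n → B) (hω' : ∀ i, ω' i = ω i + ∑ l, (t l * c i l) • ω l)
  (c' : Fin n → Fin n → B) (hω : ∀ i, ω i = ω' i + ∑ l, (t' l * c' i l) • ω' l)

include hω in
theorem comp_change (j : Fin n) (m : E) :
    LogConn.comp nabla ω' j m = LogConn.comp nabla ω j m + t' j • ∑ i, c' i j • LogConn.comp nabla ω i m := by
  classical
  have h : ∀ i, ω'.coord j (ω i) = (if i = j then 1 else 0) + t' j * c' i j := fun i => by
    rw [hω i, map_add, map_sum]
    simp only [Module.Basis.coord_apply, Module.Basis.repr_self, Finsupp.single_apply, map_smul, Finsupp.coe_smul,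
      Pi.smul_apply, smul_eq_mul, mul_ite, mul_one, mul_zero]
    simp
  show Conn.along nabla (ω'.coord j) m = _
  rw [Conn.along_apply, nabla_eq_sum (ω := ω) nabla m, map_sum, map_sum, Finset.smul_sum]
  simp only [TensorProduct.map_tmul, TensorProduct.rid_tmul, LinearMap.id_apply, h, add_smul, mul_smul,
    Finset.sum_add_distrib, ite_smul, one_smul, zero_smul, Finset.sum_ite_eq', Finset.mem_univ, if_true]

include hbΩ hι hc hcomm ht' hω in
theorem compProd'_mem (J : Finset (Fin n)) (e : E) :
    LogConn.compProd nabla ω' J e ∈ LogConn.piece nabla ω t J := by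
  classical
  induction J using Finset.induction_on_min with
  | empty =>
    have h := term_mem_piece (t := t) (nabla := nabla) (ω := ω) ∅ ∅ le_rfl e
    simpa [compProd_empty] using h
  | insert j J hj ih =>
    have hjJ : j ∉ J := fun h => lt_irrefl j (hj j h)
    rw [compProd_insert j J hj, LinearMap.comp_apply, comp_change c' hω]
    refine add_mem (comp_mem_piece_insert bΩ hbΩ hι hc hcomm j J hjJ ih) ?_
    rw [ht', mul_smul]
    refine smul_mem bΩ hbΩ hι hc _ _ _ ?_
    have h := prod_smul_piece_mem bΩ hcomm J (insert j J)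
      (show ∑ i, c' i j • LogConn.comp nabla ω i (LogConn.compProd nabla ω' J e) ∈ LogConn.piece nabla ω t J from
        sum_mem fun i _ => smul_mem bΩ hbΩ hι hc _ _ _ (comp_mem_piece bΩ hbΩ hι hc hcomm i J ih)) hbΩ hι hc
    have hs : insert j J \ J = {j} := by
      ext x
      simp only [Finset.mem_sdiff, Finset.mem_insert, Finset.mem_singleton]
      constructor
      · rintro ⟨h1 | h1, h2⟩
        exacts [h1, absurd h1 h2]
      · rintro rfl; exact ⟨Or.inl rfl, hjJ⟩
    rwa [hs, Finset.prod_singleton] at h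

include hbΩ hι hc hcomm ht' hω in
theorem piece'_le (K : Finset (Fin n)) : LogConn.piece nabla ω' t' K ≤ LogConn.piece nabla ω t K := by
  classical
  refine iSup₂_le fun J hJ => ?_
  rintro _ ⟨e, rfl⟩
  rw [Finset.mem_powerset] at hJ
  show (∏ i ∈ K \ J, t' i) • LogConn.compProd nabla ω' J e ∈ LogConn.piece nabla ω t K
  rw [Finset.prod_congr rfl fun i _ => ht' i, Finset.prod_mul_distrib, mul_smul]
  exact smul_mem bΩ hbΩ hι hc _ _ _
    (prod_smul_piece_mem bΩ hcomm J K (compProd'_mem bΩ hbΩ hι hc hcomm v ht' c' hω J e) hbΩ hι hc)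

include hbΩ hι hc hcomm ht' hω hω' in
theorem layer'_le (p : ℕ) : LogConn.layer nabla ω' t' p ≤ LogConn.layer nabla ω t p := by
  classical
  intro x hx
  rw [eq_sum_coordE (ω := ω') p x]
  refine sum_mem fun K _ => ?_
  have ha := piece'_le bΩ hbΩ hι hc hcomm v ht' c' hω _ ((Submodule.mem_iInf _).1 hx K)
  rw [exteriorPower.basis_apply, exteriorPower.ιMulti_family]
  refine (Submodule.mem_iInf _).2 fun K' => ?_
  show LogConn.coordE (E := E) ω p K' _ ∈ LogConn.piece nabla ω t _
  rw [coordE_tmul]
  let g := Set.powersetCard.ofFinEmbEquiv.symm K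
  let κ := Set.powersetCard.ofFinEmbEquiv.symm K'
  let cc : Fin p → B := fun j => if κ j ∈ (K : Finset (Fin n)) then 1 else t (κ j)
  let M' : Matrix (Fin p) (Fin p) B := Matrix.of fun k j =>
    if κ j ∈ (K : Finset (Fin n)) then ω.coord (κ j) (ω' (g k)) else c (g k) (κ j)
  have hM : (Matrix.of fun k j => ω.coord (κ j) ((⇑ω' ∘ ⇑g) k)) = Matrix.of fun k j => cc j * M' k j := by
    ext k j
    simp only [Matrix.of_apply, cc, M', Function.comp_apply]
    by_cases hj : κ j ∈ (K : Finset (Fin n))
    · rw [if_pos hj, if_pos hj, one_mul]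
    · have hne : g k ≠ κ j := fun h => hj (h ▸ (Set.powersetCard.mem_range_ofFinEmbEquiv_symm_iff_mem K _).1 ⟨k, rfl⟩)
      rw [if_neg hj, if_neg hj, hω', map_add, map_sum]
      simp [Finsupp.single_apply, hne]
  rw [hM, Matrix.det_mul_row]
  have hc' : ∏ j, cc j = ∏ i ∈ (K' : Finset (Fin n)) \ (K : Finset (Fin n)), t i := by
    have hmap : (K' : Finset (Fin n)) = Finset.univ.map κ.toEmbedding := by
      ext a
      simp only [Finset.mem_map, Finset.mem_univ, true_and]
      exact (Set.powersetCard.mem_range_ofFinEmbEquiv_symm_iff_mem K' a).symm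
    rw [Finset.sdiff_eq_filter, hmap, Finset.prod_filter, Finset.prod_map]
    exact Finset.prod_congr rfl fun j _ => by simp only [cc, RelEmbedding.coe_toEmbedding, ite_not]
  rw [hc', mul_comm, mul_smul]
  exact smul_mem bΩ hbΩ hι hc _ _ _ (prod_smul_piece_mem bΩ hcomm _ _ ha hbΩ hι hc)

end Groth.Agent.LogConnPieceLib
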